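import Mathlib
import Cfsg.Agent.H966.Frob
set_option linter.all false

/-!
# Extension of scalars from a subfield for coordinate spaces (helper208)

* `exists_extend` : a linear equivalence `(κ → K) ≃ (ι → K)` over a subfield `K` of `F` extends to `F`;
* `frob_comm` : the extension commutes with the coordinatewise action of a field automorphism fixing `K`;
* `quad_ext` : two quadratic forms on `κ → F` which agree on the vectors over `K` are equal.
-/

set_option autoImplicit false

namespace Cfsg.Agent.H208.Ext

open Cfsg.Agent.CpAut.Descent Cfsg.Agent.H966.Frob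

variable {F : Type*} [Field F] {ι κ : Type*} [Fintype ι] [DecidableEq ι] [Fintype κ] [DecidableEq κ]

/-- **Extension of scalars.** -/
theorem exists_extend (K : Subfield F) (k : (κ → K) ≃ₗ[K] (ι → K)) :
    ∃ k' : (κ → F) ≃ₗ[F] (ι → F), ∀ v, k' (inc K v) = inc K (k v) := by
  have hk : k.symm.toLinearMap ∘ₗ k.toLinearMap = LinearMap.id := by ext1 x; simp
  have hk' : k.toLinearMap ∘ₗ k.symm.toLinearMap = LinearMap.id := by ext1 x; simp
  let M : Matrix ι κ K := LinearMap.toMatrix' k.toLinearMap
  let N : Matrix κ ι K := LinearMap.toMatrix' k.symm.toLinearMap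
  have hNM : N * M = 1 := by
    rw [← LinearMap.toMatrix'_comp, hk, LinearMap.toMatrix'_id]
  have hMN : M * N = 1 := by
    rw [← LinearMap.toMatrix'_comp, hk', LinearMap.toMatrix'_id]
  have hM : ∀ v, M.mulVec v = k v := fun v => by
    rw [LinearMap.toMatrix'_mulVec]; rfl
  let M' : Matrix ι κ F := M.map (algebraMap K F)
  let N' : Matrix κ ι F := N.map (algebraMap K F)
  have hNM' : N' * M' = 1 := by
    rw [← Matrix.map_mul, hNM, Matrix.map_one _ (map_zero _) (map_one _)]
  have hMN' : M' * N' = 1 := by
    rw [← Matrix.map_mul, hMN, Matrix.map_one _ (map_zero _) (map_one _)]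
  refine ⟨LinearEquiv.ofLinearMap M'.mulVecLin N'.mulVecLin ?_ ?_, fun v => ?_⟩
  · rw [← Matrix.mulVecLin_mul, hMN', Matrix.mulVecLin_one]
  · rw [← Matrix.mulVecLin_mul, hNM', Matrix.mulVecLin_one]
  · change M'.mulVec (inc K v) = _
    rw [← hM]
    funext i
    simp only [Matrix.mulVec, dotProduct, inc_apply, M', Matrix.map_apply]
    push_cast
    rfl

omit [Fintype κ] in
/-- A vector as a combination of vectors over the subfield. -/
theorem eq_sum [Fintype κ] (K : Subfield F) (v : κ → F) :
    v = ∑ i, v i • inc K (Pi.single i 1) := by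
  funext j
  rw [Finset.sum_apply]
  simp [inc_single, Pi.single_apply]

omit [Fintype ι] [DecidableEq ι] in
/-- The extension commutes with the field automorphism. -/
theorem frob_comm {σ : F ≃+* F} {k' : (κ → F) ≃ₗ[F] (ι → F)} {k : (κ → fix σ) → (ι → fix σ)}
    (h : ∀ v, k' (inc _ v) = inc _ (k v)) (v : κ → F) : k' (frob κ σ v) = frob ι σ (k' v) := by
  have hs := semi_frob (ι := κ) σ
  have hs' := semi_frob (ι := ι) σ
  rw [eq_sum (fix σ) v, hs.map_sum, map_sum, map_sum, hs'.map_sum]
  refine Finset.sum_congr rfl fun i _ => ?_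
  rw [hs.smul, map_smul, map_smul, hs'.smul, frob_inc, h, frob_inc]

/-- A quadratic form vanishing on the vectors over a subfield is zero. -/
theorem quad_zero (K : Subfield F) (D : QuadraticForm F (κ → F)) (h : ∀ x : κ → K, D (inc K x) = 0) :
    ∀ v, D v = 0 := by
  have hp : ∀ x y : κ → K, QuadraticMap.polar D (inc K x) (inc K y) = 0 := by
    intro x y
    rw [QuadraticMap.polar, ← inc_add, h, h, h]
    simp
  have hB : QuadraticMap.polarBilin D = 0 := by
    apply LinearMap.ext_basis (Pi.basisFun F κ) (Pi.basisFun F κ)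
    intro i j
    have h1 := hp (Pi.single i 1) (Pi.single j 1)
    rw [inc_single, inc_single] at h1
    rw [Pi.basisFun_apply, Pi.basisFun_apply, QuadraticMap.polarBilin_apply_apply]
    simpa using h1
  have hadd : ∀ u v, D (u + v) = D u + D v := by
    intro u v
    have h1 : QuadraticMap.polar D u v = 0 := by
      have := LinearMap.congr_fun₂ hB u v
      simpa using this
    rw [QuadraticMap.map_add D, h1, add_zero]
  intro v
  rw [eq_sum K v]
  have h2 : ∀ s : Finset κ, D (∑ i ∈ s, v i • inc K (Pi.single i 1)) = 0 := by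
    intro s
    induction s using Finset.induction_on with
    | empty => simp
    | insert a s ha ih =>
      rw [Finset.sum_insert ha, hadd, ih, QuadraticMap.map_smul, h, smul_zero, add_zero]
  exact h2 _

/-- Two quadratic forms agreeing on the vectors over a subfield are equal. -/
theorem quad_ext (K : Subfield F) (D D' : QuadraticForm F (κ → F))
    (h : ∀ x : κ → K, D (inc K x) = D' (inc K x)) (v : κ → F) : D v = D' v := by
  have h1 := quad_zero K (D - D') (fun x => by rw [_root_.sub_apply, h, sub_self]) v
  rw [_root_.sub_apply, sub_eq_zero] at h1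
  exact h1

end Cfsg.Agent.H208.Ext
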