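import Mathlib
import Cfsg.Agent.H208.SimForm
set_option linter.all false

/-!
# Fixed points of field and graph-field automorphisms have even order (helper208)

* `two_dvd_Fx_tr` : `x` of prime order, `tr hG x = Psi Q M`, `M` with nontrivial field automorphism: `|C(x)|` is even.
-/

set_option autoImplicit false
set_option linter.unusedSectionVars false

namespace Cfsg.Agent.H208.EvenFx

open QuadraticMap Module Cfsg.Agent.LieClassical.OrthCore Cfsg.Agent.LieClassical.OrthTrans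
open Cfsg.Agent.LieClassical.OrthSimple Cfsg.Agent.ClassicalGeometry.OrthSemi
  Cfsg.Agent.ClassicalGeometry.OrthAut1 Cfsg.Agent.LieClassical.OrthFinite
open Cfsg.Agent.H966.Frob Cfsg.Agent.H208.Ext Cfsg.Agent.H208.Frame
open Cfsg.Agent.LieClassical.QuadForms Cfsg.Agent.H208.SimForm
open Cfsg.Agent.H206.Balance (Fx)

theorem card_Fx_congr {K K' : Type*} [Group K] [Group K'] (e : K ≃* K') {x : MulAut K} {x' : MulAut K'}
    (hxx : ∀ k, x' (e k) = e (x k)) : Nat.card (Fx x') = Nat.card (Fx x) := by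
  refine (Nat.card_congr (e.toEquiv.subtypeEquiv fun k => ?_)).symm
  change x k = k ↔ x' (e k) = e k
  rw [hxx, e.injective.eq_iff]

variable {F V : Type*} [Field F] [Finite F] [AddCommGroup V] [Module F V] {Q : QuadraticForm F V}

theorem even_of_fr {κ : Type} [Fintype κ] [DecidableEq κ] {q : QuadraticForm F (κ → F)} {σ : F ≃+* F}
    (hσ : H185.OrthCent.Fix σ q)
    {q₀ : QuadraticForm (fix σ) (κ → fix σ)} (hq : ∀ x, q (inc _ x) = (q₀ x : F)) (hG₀ : Good q₀)
    {M : Gam Q} (h : Fr Q σ M.1 q) : 2 ∣ Nat.card (Fx (Psi Q M)) := by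
  obtain ⟨T, e, he, hT, hM⟩ := h
  have hx : H185.OrthCent.Ext (fix σ).subtype q₀ q := ⟨fun v => hq v⟩
  have hG : Good q := ExtE.good_ext hx hG₀
  rw [card_Fx_congr (sP he hT) (x := Psi q (H185.OrthCent.frobG hσ)) fun k => sP_psi he hT (fun v => by
    rw [hM, H185.OrthCent.frobG_apply]
    rfl) k]
  have hfin : Finite (P q) := Finite.of_equiv _ (AutOrth.Main.pe hG).toEquiv
  have hfin0 : Finite (P q₀) := Finite.of_equiv _ (ExtE.embEquiv hx hG₀ hG).symm.toEquiv
  have h1 := FixGood.two_dvd_card hG₀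
  rw [Nat.card_congr (ExtE.embEquiv hx hG₀ hG).toEquiv] at h1
  refine h1.trans (Subgroup.card_dvd_of_le ?_)
  rintro _ ⟨a, rfl⟩
  exact FixGood.Psi_frob_emb hx hσ (fun b => b.2) a

theorem even_fr_plus {σ : F ≃+* F} {M : Gam Q} {k : ℕ} (hk : 4 ≤ k) (h : Fr Q σ M.1 (Cfsg.quadFormPlus k F)) :
    2 ∣ Nat.card (Fx (Psi Q M)) := by
  rw [← coe_plusForm] at h
  refine even_of_fr (q₀ := plusForm k (fix σ)) (fun v => ?_) (fun x => ?_) (AutOrth.Main.good_plus (by omega)) h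
  · rw [coe_plusForm]
    unfold Cfsg.quadFormPlus
    simp only [map_sum, map_mul]
  · rw [coe_plusForm, coe_plusForm, coe_plus]

theorem even_fr_minus {σ : F ≃+* F} {M : Gam Q} {k : ℕ} (hk : 3 ≤ k) {a b : F} (ha : σ a = a) (hb : σ b = b)
    (hab : AnisoFix σ a b) (h : Fr Q σ M.1 (Cfsg.quadFormMinus k F a b)) : 2 ∣ Nat.card (Fx (Psi Q M)) := by
  rw [← coe_minusForm] at h
  refine even_of_fr (q₀ := minusForm k (fix σ) ⟨a, ha⟩ ⟨b, hb⟩) (fun v => ?_) (fun x => ?_)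
    (AutOrth.Main.good_minus (by omega) ?_) h
  · rw [coe_minusForm]
    unfold Cfsg.quadFormMinus
    simp only [map_add, map_sum, map_mul, map_pow, ha, hb]
  · rw [coe_minusForm, coe_minusForm, coe_minus]
  · intro z₁ z₂ h1
    have h2 := hab z₁ z₂ z₁.2 z₂.2 (by simpa using congrArg Subtype.val h1)
    exact ⟨Subtype.ext h2.1, Subtype.ext h2.2⟩

theorem even_main [FiniteDimensional F V] (hG : Good Q) {m : ℕ} (hV : finrank F V = 2 * m) (hm : 4 ≤ m) {M : Gam Q}
    {σ : F ≃+* F} {c : F} (hM : IsSS Q σ c M.1) (hσ : σ ≠ 1) {p : ℕ} (hp : p.Prime) (h : Psi Q M ^ p = 1) :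
    2 ∣ Nat.card (Fx (Psi Q M)) := by
  have := ConjSS.nontrivial_of_good hG
  obtain ⟨ho, a, ha⟩ := ConjSS.exists_normal hG hM hσ hp h
  obtain ⟨c', hc'⟩ := ConjSS.isSS_scal_mul hM a
  have h1 : Psi Q (scal Q a * M) = Psi Q M := by rw [map_mul, ConjSS.Psi_scal hG, one_mul]
  rw [← h1]
  rcases normal_form hG.nondeg hc' ho hp.pos ha with ⟨k, hk, -⟩ | ⟨k, hk, hf⟩ | ⟨k, hk, a', b', ha', hb', hab, hf⟩
  · omega
  · exact even_fr_plus (by omega) hf
  · exact even_fr_minus (by omega) ha' hb' hab hf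

/-- **Fixed point groups have even order.** -/
theorem two_dvd_Fx_tr {ι : Type} [Fintype ι] [DecidableEq ι] {Q : QuadraticForm F (ι → F)} (hG : Good Q) {m : ℕ}
    (hV : Fintype.card ι = 2 * m) (hm : 4 ≤ m) {x : MulAut (Cfsg.POmega F ⇑Q)} {M : Gam Q}
    (hx : AutOrth.Main.tr hG x = Psi Q M) {σ : F ≃+* F} {c : F} (hM : IsSS Q σ c M.1) (hσ : σ ≠ 1) {p : ℕ}
    (hp : p.Prime) (hord : orderOf x = p) : 2 ∣ Nat.card (Fx x) := by
  have h1 := even_main hG (m := m) (by rw [finrank_fintype_fun_eq_card, hV]) hm hM hσ hp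
    (Dict.pow_eq_one hG hx (by rw [← hord, pow_orderOf_eq_one]))
  rwa [card_Fx_congr (AutOrth.Main.pe hG) (x := x) fun k => by
    rw [← hx]
    change AutOrth.Main.pe hG (x ((AutOrth.Main.pe hG).symm (AutOrth.Main.pe hG k))) = _
    rw [MulEquiv.symm_apply_apply]] at h1

end Cfsg.Agent.H208.EvenFx
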