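import Cfsg.Agent.H198.TriSpec
import Cfsg.Agent.H161.G2Emb
set_option linter.all false

-- part: H208/SgAut
section
/-!
# The Siegel element of a special pair is an octonion automorphism (helper208)

* `sg_omul` : `sg h (x y) = sg h x · sg h y`;
* `rho_sg` : its class is fixed by `ρ`; `psi_sg`, `xt_sg` : the action of `Ψ(N)` and of `xt hG (fG σ)`.
-/

set_option autoImplicit false

namespace Cfsg.Agent.H208.SgAut

open Module QuadraticMap Cfsg.Agent.LieClassical.OrthCore Cfsg.Agent.LieClassical.OrthTrans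
  Cfsg.Agent.LieClassical.OrthSimple Cfsg.Agent.ClassicalGeometry.OrthAut1
  Cfsg.Agent.ClassicalGeometry.OrthSemi Cfsg.Agent.H198.Classes
  Cfsg.Agent.LieClassical.QuadForms Cfsg.Agent.H198.ClassesPlus
  Cfsg.Agent.ClassicalGeometry.TrialityOct Cfsg.Agent.ClassicalGeometry.Triality
  Cfsg.Agent.ClassicalGeometry.TrialitySpaces Cfsg.Agent.H198.TriBase Cfsg.Agent.H198.TriAut
  Cfsg.Agent.H206.Balance Cfsg.Agent.H198.BalVar Cfsg.Agent.H198.TriDia Cfsg.Agent.H198.TriSpec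

universe u

variable {F : Type u} [Field F]

/-- The trace. -/
def tr (x : V8 F) : F := x (.inl 0) + x (.inr 0)

theorem lin_alt (u x y : V8 F) :
    omul u (omul x y) = omul (omul u x + omul x u) y - omul x (omul u y) := by
  coord8

theorem anti (u x : V8 F) :
    omul u x + omul x u = tr x • u + tr u • x - polar (plusForm 4 F) u x • one8 F := by
  unfold tr
  apply ext8 <;>
  simp only [omul_l0, omul_l1, omul_l2, omul_l3, omul_r0, omul_r1, omul_r2, omul_r3,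
    Pi.add_apply, Pi.sub_apply, Pi.smul_apply, smul_eq_mul, polar8, one8, Sum.elim_inl, Sum.elim_inr,
    Matrix.cons_val_zero, Matrix.cons_val_one, Matrix.cons_val] <;>
  ring

theorem tr_left {u w : V8 F} (h : Sp u w) : tr u = 0 := tr_of_sq h.uu

theorem tr_right {u w : V8 F} (h : Sp u w) : tr w = 0 := tr_of_sq h.ww

/-- `(u x + x u) y` -/
theorem anti_omul {u : V8 F} (hu : tr u = 0) (x y : V8 F) :
    omul (omul u x + omul x u) y = tr x • omul u y - polar (plusForm 4 F) u x • y := by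
  rw [anti, hu, zero_smul, add_zero, sub_eq_add_neg, add_omul, ← neg_smul, smul_omul, smul_omul, one_omul, neg_smul,
    ← sub_eq_add_neg]

theorem left_step {u : V8 F} (hu : tr u = 0) (x y : V8 F) :
    omul u (omul x y) = tr x • omul u y - polar (plusForm 4 F) u x • y - omul x (omul u y) := by
  rw [lin_alt, anti_omul hu]

theorem swap_step {w : V8 F} (hw : tr w = 0) (x : V8 F) :
    omul w x = tr x • w - polar (plusForm 4 F) w x • one8 F - omul x w := by
  have h := anti w x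
  rw [hw, zero_smul, add_zero] at h
  rw [← h, add_sub_cancel_right]

theorem omul_sub (x y z : V8 F) : omul x (y - z) = omul x y - omul x z := by coord8

/-- `u (w x) = b(u, x) w - b(w, x) u`. -/
theorem n_eq {u w : V8 F} (h : Sp u w) (x : V8 F) :
    omul u (omul w x) = polar (plusForm 4 F) u x • w - polar (plusForm 4 F) w x • u := by
  rw [swap_step (tr_right h), omul_sub, omul_sub, omul_smul, omul_smul, omul_one, h.uw, smul_zero, zero_sub,
    left_step (tr_left h) x w, h.uw, smul_zero, zero_sub, omul_zero, sub_zero]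
  abel

theorem n_omul {u w : V8 F} (h : Sp u w) (x y : V8 F) :
    omul u (omul w (omul x y)) = omul (omul u (omul w x)) y + omul x (omul u (omul w y)) := by
  rw [left_step (tr_right h) x y, omul_sub, omul_sub, omul_smul, omul_smul, left_step (tr_left h) x (omul w y), n_eq h x,
    sub_eq_add_neg (_ • w), add_omul, ← neg_smul, smul_omul, smul_omul, neg_smul]
  abel

theorem n_n {u w : V8 F} (h : Sp u w) (x y : V8 F) : omul (omul u (omul w x)) (omul u (omul w y)) = 0 := by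
  rw [n_eq h, n_eq h, sub_eq_add_neg, sub_eq_add_neg, ← neg_smul, ← neg_smul, add_omul, omul_add, omul_add, smul_omul,
    smul_omul, smul_omul, smul_omul, omul_smul, omul_smul, omul_smul, omul_smul, h.uw, h.wu, h.uu, h.ww]
  simp

/-- **The Siegel element of a special pair is an octonion automorphism.** -/
theorem sg_omul {u w : V8 F} (h : Sp u w) (x y : V8 F) : (sg h : V8 F ≃ₗ[F] V8 F) (omul x y) =
    omul ((sg h : V8 F ≃ₗ[F] V8 F) x) ((sg h : V8 F ≃ₗ[F] V8 F) y) := by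
  rw [sg_apply, sg_apply, sg_apply, ← n_eq h, ← n_eq h, ← n_eq h, n_omul h, add_omul, omul_add, omul_add, n_n h]
  abel

theorem sg_oconj {u w : V8 F} (h : Sp u w) (x : V8 F) : (sg h : V8 F ≃ₗ[F] V8 F) (oconj x) =
    oconj ((sg h : V8 F ≃ₗ[F] V8 F) x) := by
  have h1 : (sg h : V8 F ≃ₗ[F] V8 F) (one8 F) = one8 F := by
    have e := sg_omul h (one8 F) (one8 F)
    rw [one_omul] at e
    have h2 : plusForm 4 F ((sg h : V8 F ≃ₗ[F] V8 F) (one8 F)) ≠ 0 := by
      rw [E_le_O (sg h).2 (one8 F), norm_one8]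
      exact one_ne_zero
    apply omul_left_cancel h2
    rw [← e, omul_one]
  have h2 : polar (plusForm 4 F) ((sg h : V8 F ≃ₗ[F] V8 F) x) (one8 F) = polar (plusForm 4 F) x (one8 F) := by
    have e : ∀ v, plusForm 4 F ((sg h : V8 F ≃ₗ[F] V8 F) v) = plusForm 4 F v := fun v => E_le_O (sg h).2 v
    conv_lhs => rw [← h1]
    rw [polar, polar, ← map_add, e, e, e]
  rw [oconj_eq, oconj_eq, map_sub, map_smul, h1, h2]

/-- The class of the Siegel element is fixed by `ρ`. -/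
theorem rho_sg (hG : Good (plusForm 4 F)) {u w : V8 F} (h : Sp u w) :
    rho hG ((sg h : ↥(E (plusForm 4 F))) : P8 F) = ((sg h : ↥(E (plusForm 4 F))) : P8 F) := by
  have h1 : ((sg h : ↥(E (plusForm 4 F))) : P8 F) ∈ Fx (xt hG 1) := by
    rw [mem_Fx_xt hG TriS.one]
    refine ⟨sg h, rfl, (sg h).2, fun x y => ?_⟩
    rw [dia_one, dia_one, sg_omul, sg_oconj, sg_oconj]
  rw [mem_Fx, xt, map_one, one_mul] at h1
  exact h1

/-- `Ψ(τ)` on the Siegel element of a special pair. -/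
theorem psi_sg {u w : V8 F} (h : Sp u w) {τ : G8 F} (hτ : TriS τ τ τ) :
    Psi (plusForm 4 F) τ ((sg h : ↥(E (plusForm 4 F))) : P8 F) = ((sg (h.map hτ) : ↥(E (plusForm 4 F))) : P8 F) := by
  rw [Psi_mk]
  congr 1
  apply Subtype.ext
  apply LinearEquiv.ext
  intro z
  obtain ⟨σ, c, hs⟩ := τ.2
  obtain rfl := aut_mult hτ hs
  obtain ⟨z, rfl⟩ := τ.1.surjective z
  rw [coe_conjE, conjLin_apply', sg_apply, sg_apply, hs.add, hs.sub, hs.smul, hs.smul, hs.polar, hs.polar, one_mul,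
    one_mul]

/-- `Ψ(τ) ρ` on the Siegel element of a special pair. -/
theorem xt_sg (hG : Good (plusForm 4 F)) {u w : V8 F} (h : Sp u w) {τ : G8 F} (hτ : TriS τ τ τ) :
    xt hG τ ((sg h : ↥(E (plusForm 4 F))) : P8 F) = ((sg (h.map hτ) : ↥(E (plusForm 4 F))) : P8 F) := by
  rw [xt, MulAut.mul_apply, rho_sg, psi_sg h hτ]

/-- Siegel elements of equal pairs. -/
theorem sg_congr {u w u' w' : V8 F} (h : Sp u w) (h' : Sp u' w') (hu : u = u') (hw : w = w') : sg h = sg h' := by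
  subst hu hw
  rfl

end Cfsg.Agent.H208.SgAut
end

-- part: H513/CoreFG
section
/-!
# The fixed points of triality and a field automorphism (for S2732, task 229 of helper198)

* `dl` : the dictionary between the octonions `V8 F` (product `omul`) and Zorn's algebra;
* `Ph φ` : `GL₈(F₀) → GL(V8 F)`; it maps `G2 F₀` to octonion automorphisms;
* `core_fG` : a `3'`-subgroup of `Fx ρ ∩ Fx (Ψ (fG σ))` normalised by it is trivial (modulo the
  statement `G2_core` on `G2`).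
-/

set_option autoImplicit false
namespace Cfsg.Agent.H513.CoreFG
open Module QuadraticMap Cfsg.Agent.LieClassical.OrthCore Cfsg.Agent.LieClassical.OrthTrans
  Cfsg.Agent.LieClassical.OrthSimple Cfsg.Agent.ClassicalGeometry.OrthAut1
  Cfsg.Agent.ClassicalGeometry.OrthSemi Cfsg.Agent.H198.Classes
  Cfsg.Agent.LieClassical.QuadForms Cfsg.Agent.H198.ClassesPlus
  Cfsg.Agent.ClassicalGeometry.TrialityOct Cfsg.Agent.ClassicalGeometry.Triality
  Cfsg.Agent.ClassicalGeometry.TrialitySpaces Cfsg.Agent.H198.TriBase Cfsg.Agent.H198.TriAut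
  Cfsg.Agent.H206.Balance Cfsg.Agent.H198.BalVar Cfsg.Agent.H198.TriDia Cfsg.Agent.H198.TriSpec
universe u
variable {F : Type u} [Field F]

/-- The dictionary with Zorn's algebra. -/
def dl (F : Type u) [Field F] : V8 F ≃ₗ[F] (Fin 8 → F) where
  toFun x := ![x (.inl 0), x (.inl 1), x (.inl 2), x (.inl 3), -x (.inr 1), -x (.inr 2),
    -x (.inr 3), x (.inr 0)]
  invFun y := Sum.elim ![y 0, y 1, y 2, y 3] ![y 7, -y 4, -y 5, -y 6]
  map_add' x y := by
    funext i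
    fin_cases i <;> simp [add_comm]
  map_smul' c x := by
    funext i
    fin_cases i <;> simp
  left_inv x := by
    apply ext8 <;> simp
  right_inv y := by
    funext i
    fin_cases i <;> simp

theorem dl_mul (x y : V8 F) : Cfsg.Lie.zornMul (dl F x) (dl F y) = dl F (omul x y) := by
  apply H161.Oct.ext8
  · rw [H161.Oct.mul0]
    change _ = omul x y (.inl 0)
    rw [omul_l0]
    simp [dl]
    ring
  · rw [H161.Oct.mul1]
    change _ = omul x y (.inl 1)
    rw [omul_l1]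
    simp [dl]
  · rw [H161.Oct.mul2]
    change _ = omul x y (.inl 2)
    rw [omul_l2]
    simp [dl]
  · rw [H161.Oct.mul3]
    change _ = omul x y (.inl 3)
    rw [omul_l3]
    simp [dl]
  · rw [H161.Oct.mul4]
    change _ = -omul x y (.inr 1)
    rw [omul_r1]
    simp [dl]
    ring
  · rw [H161.Oct.mul5]
    change _ = -omul x y (.inr 2)
    rw [omul_r2]
    simp [dl]
    ring
  · rw [H161.Oct.mul6]
    change _ = -omul x y (.inr 3)
    rw [omul_r3]
    simp [dl]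
    ring
  · rw [H161.Oct.mul7]
    change _ = omul x y (.inr 0)
    rw [omul_r0]
    simp [dl]
    ring

theorem dl_nm (x : V8 F) : H161.Oct.nm (dl F x) = plusForm 4 F x := by
  rw [norm8]
  simp [dl, H161.Oct.nm]
  ring

/-- conjugation with `dl` -/
def cj (F : Type u) [Field F] : ((Fin 8 → F) ≃ₗ[F] (Fin 8 → F)) ≃* (V8 F ≃ₗ[F] V8 F) where
  toFun f := (dl F).trans (f.trans (dl F).symm)
  invFun g := (dl F).symm.trans (g.trans (dl F))
  left_inv f := by ext1 x; simp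
  right_inv g := by ext1 x; simp
  map_mul' f g := by
    apply LinearEquiv.ext
    intro x
    change (dl F).symm (f (g (dl F x))) = (dl F).symm (f ((dl F) ((dl F).symm (g (dl F x)))))
    rw [LinearEquiv.apply_symm_apply]

theorem cj_apply (f : (Fin 8 → F) ≃ₗ[F] (Fin 8 → F)) (x : V8 F) :
    dl F (cj F f x) = f (dl F x) := (dl F).apply_symm_apply _

theorem cj_mul {f : (Fin 8 → F) ≃ₗ[F] (Fin 8 → F)} (hf : f ∈ H161.Oct.AutO F) (x y : V8 F) :
    cj F f (omul x y) = omul (cj F f x) (cj F f y) := by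
  apply (dl F).injective
  rw [cj_apply, ← dl_mul, ← dl_mul, cj_apply, cj_apply]
  exact hf _ _

theorem cj_symm_mem {g : V8 F ≃ₗ[F] V8 F} (hg : ∀ x y, g (omul x y) = omul (g x) (g y)) :
    (cj F).symm g ∈ H161.Oct.AutO F := by
  intro x y
  obtain ⟨x, rfl⟩ := (dl F).surjective x
  obtain ⟨y, rfl⟩ := (dl F).surjective y
  have h : ∀ z, (cj F).symm g (dl F z) = dl F (g z) := by
    intro z
    change dl F (g ((dl F).symm (dl F z))) = _
    rw [LinearEquiv.symm_apply_apply]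
  rw [dl_mul, h, h, h, dl_mul, hg]

theorem cj_mem_O {f : (Fin 8 → F) ≃ₗ[F] (Fin 8 → F)} (hf : f ∈ H161.Oct.AutO F) :
    cj F f ∈ O (plusForm 4 F) := by
  intro v
  rw [← dl_nm, ← dl_nm, cj_apply, H161.Oct.map_nm hf]

open Cfsg.Agent.H161.Oct (emb toE AutO emb_mem emb_inj toE_mem zornMul_map mulVec_map)

/-- Extension of scalars to linear automorphisms of `V8 F`. -/
noncomputable def Ph {F₀ : Type u} [Field F₀] (φ : F₀ →+* F) :
    Matrix.GeneralLinearGroup (Fin 8) F₀ →* (V8 F ≃ₗ[F] V8 F) :=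
  (cj F).toMonoidHom.comp (emb φ)

theorem Ph_inj {F₀ : Type u} [Field F₀] (φ : F₀ →+* F) : Function.Injective (Ph (F := F) φ) :=
  (cj F).injective.comp (emb_inj φ)

theorem dl_fG (σ : F ≃+* F) (x : V8 F) (i : Fin 8) : dl F ((fG σ).1 x) i = σ (dl F x i) := by
  fin_cases i
  · rfl
  · rfl
  · rfl
  · rfl
  · exact (map_neg σ _).symm
  · exact (map_neg σ _).symm
  · exact (map_neg σ _).symm
  · rfl

/-- The fixed field. -/
def fixF (σ : F ≃+* F) : Subfield F where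
  carrier := {a | σ a = a}
  mul_mem' {a b} ha hb := by
    change σ (a * b) = a * b
    rw [map_mul, ha, hb]
  one_mem' := map_one σ
  add_mem' {a b} ha hb := by
    change σ (a + b) = a + b
    rw [map_add, ha, hb]
  zero_mem' := map_zero σ
  neg_mem' {a} ha := by
    change σ (-a) = -a
    rw [map_neg, ha]
  inv_mem' a ha := by
    change σ a⁻¹ = a⁻¹
    rw [map_inv₀, ha]

theorem Ph_apply_fG (σ : F ≃+* F) (g : Matrix.GeneralLinearGroup (Fin 8) ↥(fixF σ)) (x : V8 F) :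
    (fG σ).1 (Ph (fixF σ).subtype g x) = Ph (fixF σ).subtype g ((fG σ).1 x) := by
  apply (dl F).injective
  funext i
  rw [dl_fG]
  change σ (dl F (cj F (emb _ g) x) i) = dl F (cj F (emb _ g) ((fG σ).1 x)) i
  rw [cj_apply, cj_apply]
  change σ (((g : Matrix (Fin 8) (Fin 8) ↥(fixF σ)).map (fixF σ).subtype).mulVec (dl F x) i) =
    ((g : Matrix (Fin 8) (Fin 8) ↥(fixF σ)).map (fixF σ).subtype).mulVec (dl F ((fG σ).1 x)) i
  rw [Matrix.mulVec, Matrix.mulVec, dotProduct, dotProduct, map_sum]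
  refine Finset.sum_congr rfl fun j _ => ?_
  rw [map_mul, dl_fG]
  congr 1
  exact (g i j).2

theorem exists_Ph (σ : F ≃+* F) {g : V8 F ≃ₗ[F] V8 F}
    (hg : ∀ x y, g (omul x y) = omul (g x) (g y))
    (hs : ∀ x, (fG σ).1 (g x) = g ((fG σ).1 x)) :
    ∃ g₀ : Matrix.GeneralLinearGroup (Fin 8) ↥(fixF σ), g₀ ∈ Cfsg.Lie.G2 ↥(fixF σ) ∧
      Ph (fixF σ).subtype g₀ = g := by
  set f := (cj F).symm g with hf
  have hfA : f ∈ AutO F := cj_symm_mem hg
  set A := (toE F).symm f with hA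
  have hfa : ∀ y, f y = (A : Matrix (Fin 8) (Fin 8) F).mulVec y := by
    intro y
    rw [← H161.Oct.toE_apply, hA, MulEquiv.apply_symm_apply]
  have hfs : ∀ y : Fin 8 → F, f (fun i => σ (y i)) = fun i => σ (f y i) := by
    intro y
    obtain ⟨x, rfl⟩ := (dl F).surjective y
    have e1 : (fun i => σ (dl F x i)) = dl F ((fG σ).1 x) := by
      funext i
      rw [dl_fG]
    have h : ∀ z, f (dl F z) = dl F (g z) := by
      intro z
      change dl F (g ((dl F).symm (dl F z))) = _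
      rw [LinearEquiv.symm_apply_apply]
    rw [e1, h, h, ← hs]
    funext i
    rw [dl_fG]
  have hent : ∀ i j, σ ((A : Matrix (Fin 8) (Fin 8) F) i j) = (A : Matrix (Fin 8) (Fin 8) F) i j := by
    intro i j
    have e1 : (A : Matrix (Fin 8) (Fin 8) F) i j = f (Pi.single j 1) i := by
      rw [hfa, Matrix.mulVec_single_one]
      rfl
    have e2 : (fun l => σ ((Pi.single j 1 : Fin 8 → F) l)) = Pi.single j 1 := by
      funext l
      by_cases h : l = j
      · subst h; simp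
      · simp [Pi.single_eq_of_ne h]
    have e3 := congrFun (hfs (Pi.single j 1)) i
    rw [e2] at e3
    rw [e1]
    exact e3.symm
  set A₀ : Matrix (Fin 8) (Fin 8) ↥(fixF σ) := fun i j => ⟨_, hent i j⟩ with hA₀
  have hmap : A₀.map (fixF σ).subtype = (A : Matrix (Fin 8) (Fin 8) F) := by
    ext i j
    rfl
  have hdet : A₀.det ≠ 0 := by
    intro h0
    have h1 : (fixF σ).subtype A₀.det = (A : Matrix (Fin 8) (Fin 8) F).det := by
      rw [RingHom.map_det]
      congr 1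
    rw [h0, map_zero] at h1
    have h2 := (Matrix.isUnit_iff_isUnit_det _).1 A.isUnit
    rw [← h1] at h2
    exact not_isUnit_zero h2
  refine ⟨Matrix.GeneralLinearGroup.mkOfDetNeZero A₀ hdet, ?_, ?_⟩
  · intro x y
    have hx : ∀ z : Fin 8 → ↥(fixF σ), (fun i => (fixF σ).subtype ((A₀.mulVec z) i)) =
        f (fun i => (fixF σ).subtype (z i)) := by
      intro z
      rw [← mulVec_map, hmap, hfa]
    funext i
    apply (fixF σ).subtype.injective
    have e1 := congrFun (hx (Cfsg.Lie.zornMul x y)) i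
    have e2 := congrFun (zornMul_map (fixF σ).subtype (A₀.mulVec x) (A₀.mulVec y)) i
    change (fixF σ).subtype (A₀.mulVec (Cfsg.Lie.zornMul x y) i) =
      (fixF σ).subtype (Cfsg.Lie.zornMul (A₀.mulVec x) (A₀.mulVec y) i)
    refine e1.trans (Eq.trans ?_ e2.symm)
    have e3 := zornMul_map (fixF σ).subtype x y
    rw [e3, hx, hx]
    exact congrFun (hfA _ _) i
  · apply (cj F).symm.injective
    change (cj F).symm (cj F (emb _ _)) = f
    rw [MulEquiv.symm_apply_apply]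
    apply LinearEquiv.ext
    intro y
    rw [hfa, ← hmap]
    rfl

theorem xt_one (hG : Good (plusForm 4 F)) : xt hG (1 : G8 F) = rho hG := by
  unfold xt
  have h1 : Psi (plusForm 4 F) (1 : G8 F) = 1 := map_one (Psi (plusForm 4 F))
  rw [h1, one_mul]

theorem mem_AutD_one {g : V8 F ≃ₗ[F] V8 F} (hg : g ∈ E (plusForm 4 F))
    (hm : ∀ x y, g (omul x y) = omul (g x) (g y)) : g ∈ AutD (1 : G8 F) := by
  refine ⟨hg, fun u w => ?_⟩
  have hconj : ∀ z, g (oconj z) = oconj (g z) := by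
    intro z
    have h2 : TriS (gamO _ ⟨g, E_le_O hg⟩) (gamO _ ⟨g, E_le_O hg⟩)
        (gamO _ ⟨g, E_le_O hg⟩) := fun x y => hm x y
    exact aut_oconj h2 z
  rw [dia_one, dia_one, hm, hconj, hconj]

/-- the homomorphism from `G2 F₀` -/
noncomputable def Th (σ : F ≃+* F) : ↥(Cfsg.Lie.G2 ↥(fixF σ)) →* (V8 F ≃ₗ[F] V8 F) :=
  (Ph (fixF σ).subtype).comp (Cfsg.Lie.G2 ↥(fixF σ)).subtype

theorem Th_inj (σ : F ≃+* F) : Function.Injective (Th σ) :=
  (Ph_inj _).comp Subtype.val_injective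

theorem Th_mul (σ : F ≃+* F) (g : ↥(Cfsg.Lie.G2 ↥(fixF σ))) (x y : V8 F) :
    Th σ g (omul x y) = omul (Th σ g x) (Th σ g y) := cj_mul (emb_mem _ g.2) x y

theorem Th_mem_O (σ : F ≃+* F) (g : ↥(Cfsg.Lie.G2 ↥(fixF σ))) : Th σ g ∈ O (plusForm 4 F) :=
  cj_mem_O (emb_mem _ g.2)

/-- the elements whose image lies in `E Q` -/
noncomputable def HH (σ : F ≃+* F) : Subgroup ↥(Cfsg.Lie.G2 ↥(fixF σ)) :=
  (E (plusForm 4 F)).comap (Th σ)

theorem comm_le_HH (hG : Good (plusForm 4 F)) (σ : F ≃+* F) :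
    commutator ↥(Cfsg.Lie.G2 ↥(fixF σ)) ≤ HH σ := by
  rw [HH, ← Subgroup.map_le_iff_le_comap, ← hG.commutator_eq_E, commutator_def,
    Subgroup.map_commutator]
  apply Subgroup.commutator_mono <;>
  · rintro _ ⟨g, -, rfl⟩
    exact Th_mem_O σ g

/-- the homomorphism to `E Q` -/
noncomputable def pE (σ : F ≃+* F) : ↥(HH σ) →* ↥(E (plusForm 4 F)) :=
  ((Th σ).comp (HH σ).subtype).codRestrict (E (plusForm 4 F)) (fun g => g.2)

theorem pE_coe (σ : F ≃+* F) (g : ↥(HH σ)) : (pE σ g : V8 F ≃ₗ[F] V8 F) = Th σ g.1 := rfl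

theorem pE_mem (σ : F ≃+* F) (g : ↥(HH σ)) : (pE σ g : V8 F ≃ₗ[F] V8 F) ∈ AutD (1 : G8 F) :=
  mem_AutD_one (pE σ g).2 (Th_mul σ g.1)

/-- the homomorphism to `P8` -/
noncomputable def pP (σ : F ≃+* F) : ↥(HH σ) →* P8 F :=
  (QuotientGroup.mk' (Subgroup.center ↥(E (plusForm 4 F)))).comp (pE σ)

theorem pP_apply (σ : F ≃+* F) (g : ↥(HH σ)) : pP σ g = ((pE σ g : ↥(E (plusForm 4 F))) : P8 F) := rfl

theorem pP_inj (hG : Good (plusForm 4 F)) (σ : F ≃+* F) : Function.Injective (pP σ) := by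
  intro g h e
  rw [pP_apply, pP_apply] at e
  have h1 := AutD_unique hG (pE_mem σ g) (pE_mem σ h) e
  have h2 : Th σ g.1 = Th σ h.1 := by rw [← pE_coe, ← pE_coe, h1]
  exact Subtype.ext (Th_inj σ h2)

theorem pP_mem (hG : Good (plusForm 4 F)) (σ : F ≃+* F) (g : ↥(HH σ)) :
    pP σ g ∈ Fx (rho hG) ⊓ Fx (Psi (plusForm 4 F) (fG σ)) := by
  refine ⟨?_, ?_⟩
  · have h1 := (mem_Fx_xt hG (TriS.one (F := F)) (p := pP σ g)).2 ⟨pE σ g, rfl, pE_mem σ g⟩
    rwa [xt_one] at h1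
  · change Psi (plusForm 4 F) (fG σ) (pP σ g) = pP σ g
    rw [pP_apply, Psi_mk]
    congr 1
    apply Subtype.ext
    rw [coe_conjE, pE_coe]
    apply LinearEquiv.ext
    intro v
    change (fG σ).1 (Th σ g.1 ((fG σ)⁻¹.1 v)) = Th σ g.1 v
    have e1 : (fG σ).1 ((fG σ)⁻¹.1 v) = v := (fG σ).1.apply_symm_apply v
    have e2 := Ph_apply_fG σ g.1.1 ((fG σ)⁻¹.1 v)
    rw [e1] at e2
    exact e2

theorem le_range (hG : Good (plusForm 4 F)) (σ : F ≃+* F) {p : P8 F} (hp1 : p ∈ Fx (rho hG))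
    (hp2 : p ∈ Fx (Psi (plusForm 4 F) (fG σ))) : p ∈ (pP σ).range := by
  rw [← xt_one] at hp1
  obtain ⟨g, rfl, hg⟩ := (mem_Fx_xt hG (TriS.one (F := F))).1 hp1
  have hgmul := dia_one_aut hg.2
  have h3 : ((conjE _ (fG σ) g : ↥(E (plusForm 4 F))) : P8 F) = (g : P8 F) := hp2
  have e1 : ∀ v, (fG σ).1 ((fG σ)⁻¹.1 v) = v := fun v => (fG σ).1.apply_symm_apply v
  have e2 : ∀ v, (fG σ)⁻¹.1 ((fG σ).1 v) = v := fun v => (fG σ).1.symm_apply_apply v
  have hconjmul : ∀ x y, (conjLin (fG σ) (g : V8 F ≃ₗ[F] V8 F)) (omul x y) =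
      omul ((conjLin (fG σ) (g : V8 F ≃ₗ[F] V8 F)) x) ((conjLin (fG σ) (g : V8 F ≃ₗ[F] V8 F)) y) := by
    intro x y
    change (fG σ).1 ((g : V8 F ≃ₗ[F] V8 F) ((fG σ)⁻¹.1 (omul x y))) =
      omul ((fG σ).1 ((g : V8 F ≃ₗ[F] V8 F) ((fG σ)⁻¹.1 x)))
        ((fG σ).1 ((g : V8 F ≃ₗ[F] V8 F) ((fG σ)⁻¹.1 y)))
    rw [← tri_fG, ← hgmul, ← (tri_fG σ).inv]
  have hcD : ((conjE _ (fG σ) g : ↥(E (plusForm 4 F))) : V8 F ≃ₗ[F] V8 F) ∈ AutD (1 : G8 F) :=
    mem_AutD_one (conjE _ (fG σ) g).2 hconjmul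
  have h4 := AutD_unique hG hcD hg h3
  have h5 : ∀ x, (fG σ).1 ((g : V8 F ≃ₗ[F] V8 F) x) = (g : V8 F ≃ₗ[F] V8 F) ((fG σ).1 x) := by
    intro x
    have h6 := congrArg (fun z : ↥(E (plusForm 4 F)) => (z : V8 F ≃ₗ[F] V8 F) ((fG σ).1 x)) h4
    have h7 : (fG σ).1 ((g : V8 F ≃ₗ[F] V8 F) ((fG σ)⁻¹.1 ((fG σ).1 x))) =
      (g : V8 F ≃ₗ[F] V8 F) ((fG σ).1 x) := h6
    rwa [e2] at h7
  obtain ⟨g₀, hg₀, hg₁⟩ := exists_Ph σ hgmul h5
  have hg₂ : Th σ ⟨g₀, hg₀⟩ = (g : V8 F ≃ₗ[F] V8 F) := hg₁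
  refine ⟨⟨⟨g₀, hg₀⟩, ?_⟩, ?_⟩
  · change Th σ ⟨g₀, hg₀⟩ ∈ E (plusForm 4 F)
    rw [hg₂]
    exact g.2
  · rw [pP_apply]
    congr 1
    exact Subtype.ext hg₂

/-- abstract transport -/
theorem transport {A B : Type*} [Group A] [Group B] (H : Subgroup A) (f : ↥H →* B)
    (hf : Function.Injective f) (X M : Subgroup B) (hX : ∀ g, f g ∈ X) (hM : M ≤ f.range)
    (hn : ∀ c ∈ X, ∀ a ∈ M, c * a * c⁻¹ ∈ M) (hc : (Nat.card M).Coprime 3)
    (core : ∀ M' : Subgroup A, M' ≤ H → (∀ c ∈ H, ∀ a ∈ M', c * a * c⁻¹ ∈ M') →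
      (Nat.card M').Coprime 3 → M' = ⊥) : M = ⊥ := by
  have hMc : (M.comap f).map f = M := by
    rw [Subgroup.map_comap_eq, inf_eq_right]
    exact hM
  have hcard : Nat.card ↥((M.comap f).map H.subtype) = Nat.card ↥M := by
    rw [Nat.card_congr ((M.comap f).equivMapOfInjective H.subtype H.subtype_injective).symm.toEquiv,
      Nat.card_congr ((M.comap f).equivMapOfInjective f hf).toEquiv, hMc]
  have hbot := core ((M.comap f).map H.subtype)
    (by rintro _ ⟨a, -, rfl⟩; exact a.2)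
    (by
      rintro c hcH _ ⟨a, ha, rfl⟩
      refine ⟨⟨c, hcH⟩ * a * ⟨c, hcH⟩⁻¹, ?_, rfl⟩
      change f (⟨c, hcH⟩ * a * ⟨c, hcH⟩⁻¹) ∈ M
      rw [map_mul, map_mul, map_inv]
      exact hn _ (hX _) _ ha)
    (by rw [hcard]; exact hc)
  rw [Subgroup.map_eq_bot_iff_of_injective _ H.subtype_injective] at hbot
  rw [← hMc, hbot, Subgroup.map_bot]

theorem core_fG [Finite F] (hG : Good (plusForm 4 F)) (σ : F ≃+* F) (M : Subgroup (P8 F))
    (hM : M ≤ Fx (rho hG) ⊓ Fx (Psi (plusForm 4 F) (fG σ)))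
    (hn : ∀ c ∈ Fx (rho hG) ⊓ Fx (Psi (plusForm 4 F) (fG σ)), ∀ a ∈ M, c * a * c⁻¹ ∈ M)
    (hc : (Nat.card M).Coprime 3)
    -- the result of the task G2_core (same poster), take it as a hypothesis:
    (G2_core : ∀ (F : Type u) [Field F] [Finite F] (H M : Subgroup ↥(Cfsg.Lie.G2 F)), commutator ↥(Cfsg.Lie.G2 F) ≤ H → M ≤ H →
      (∀ c ∈ H, ∀ a ∈ M, c * a * c⁻¹ ∈ M) → (Nat.card M).Coprime 3 → M = ⊥) : M = ⊥ :=
  transport (HH σ) (pP σ) (pP_inj hG σ) _ M (pP_mem hG σ)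
    (fun _ hp => le_range hG σ (hM hp).1 (hM hp).2) hn hc
    (fun M' h1 h2 h3 => G2_core ↥(fixF σ) (HH σ) M' (comm_le_HH hG σ) h1 h2 h3)

end Cfsg.Agent.H513.CoreFG
end
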